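import Groth.Agent.WeakAss.Basic
import Mathlib.RingTheory.Ideal.GoingUp
import Mathlib.RingTheory.QuasiFinite.Basic

/-!
Weakly associated primes along a finite ring map, without noetherian hypotheses.
-/

set_option autoImplicit false
universe u

namespace Groth.Agent.WeakAssPush

variable {A B M : Type u} [CommRing A] [CommRing B] [Algebra A B] [Module.Finite A B]
  [AddCommGroup M] [Module A M] [Module B M] [IsScalarTower A B M]

theorem comap_mem_weakAss {q : Ideal B} (hq : q ∈ FlatCA.weakAss B M) :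
    q.comap (algebraMap A B) ∈ FlatCA.weakAss A M := by
  classical
  obtain ⟨m, hm⟩ := hq
  haveI : q.IsPrime := hm.1.1
  obtain ⟨h1, h2⟩ := WeakAss.mem_minimalPrimes_iff_exists_mul_pow_mem.1 hm
  set p := q.comap (algebraMap A B)
  haveI : p.IsPrime := inferInstance
  have hfin : (p.primesOver B).Finite := Algebra.QuasiFinite.finite_primesOver p
  let T := hfin.toFinset.erase q
  have hTp : ∀ r ∈ T, r.IsPrime ∧ r.LiesOver p := fun r hr => hfin.mem_toFinset.1 (Finset.mem_of_mem_erase hr)
  -- an element of `q` outside the other primes over `p`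
  obtain ⟨s, hsq, hs⟩ : ∃ s ∈ q, ∀ r ∈ T, s ∉ r := by
    have : ¬ ((q : Set B) ⊆ ⋃ r ∈ (↑T : Set (Ideal B)), (r : Set B)) := fun hsub => by
      obtain ⟨r, hr, hle⟩ := (Ideal.subset_union_prime ⊥ ⊥ (fun i hi _ _ => (hTp i hi).1)).1 hsub
      haveI := (hTp r hr).1
      refine (Finset.mem_erase.1 hr).1 ?_
      rcases eq_or_lt_of_le hle with h | h
      · exact h.symm
      · obtain ⟨hx, hc⟩ := SetLike.lt_iff_le_and_exists.1 h
        exact absurd ((hTp r hr).2.over) (ne_of_lt (Ideal.comap_lt_comap_of_integral_mem_sdiff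
          hle ⟨hc.choose_spec.1, hc.choose_spec.2⟩ (Algebra.IsIntegral.isIntegral _)))
    obtain ⟨s, hsq, hs⟩ := Set.not_subset.1 this
    exact ⟨s, hsq, fun r hr h => hs (Set.mem_iUnion₂.2 ⟨r, hr, h⟩)⟩
  obtain ⟨t, ht, n, hn⟩ := h2 s hsq
  refine WeakAss.mem_weakAss_iff.2 ⟨inferInstance, t • m, fun a ha => ?_, fun a ha => ?_⟩
  · have : algebraMap A B a * t ∈ q := h1 ((Submodule.mem_annihilator_span_singleton m _).2 (by
      rw [mul_smul, algebraMap_smul]; exact ha))
    exact ((inferInstance : q.IsPrime).mem_or_mem this).resolve_right ht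
  · by_contra hne
    push Not at hne
    let J := (Submodule.span B {t • m}).annihilator
    let S : Submonoid B := (p.primeCompl ⊔ Submonoid.powers a).map (algebraMap A B)
    have hd : Disjoint (J : Set B) (S : Set B) := by
      refine Set.disjoint_left.2 fun x hxJ hxS => ?_
      obtain ⟨y, hy, rfl⟩ := hxS
      obtain ⟨c, hc, _, ⟨k, rfl⟩, rfl⟩ := Submonoid.mem_sup.1 hy
      refine hne c hc k ?_
      rw [← algebraMap_smul B]
      exact (Submodule.mem_annihilator_span_singleton _ _).1 hxJ
    obtain ⟨Q, hQ, hJQ, hQd⟩ := Ideal.exists_le_prime_disjoint J S hd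
    have hQp : Q.comap (algebraMap A B) ≤ p := fun x hx => by
      by_contra hxp
      exact Set.disjoint_left.1 hQd hx ⟨x, Submonoid.mem_sup_left hxp, rfl⟩
    obtain ⟨q', hQq', hq', hq'p⟩ := Ideal.exists_ideal_over_prime_of_isIntegral p Q hQp
    have hsQ : s ∈ Q := hQ.mem_of_pow_mem n (hJQ ((Submodule.mem_annihilator_span_singleton _ _).2 (by
      rw [smul_smul, mul_comm]
      exact (Submodule.mem_annihilator_span_singleton _ _).1 hn)))
    have hqq : q' = q := by
      by_contra hne'
      exact hs q' (Finset.mem_erase.2 ⟨hne', hfin.mem_toFinset.2 ⟨hq', ⟨hq'p.symm⟩⟩⟩) (hQq' hsQ)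
    subst hqq
    have hQq : q' ≤ Q := hm.2 ⟨hQ, fun x hx => hJQ ((Submodule.mem_annihilator_span_singleton _ _).2 (by
      rw [smul_comm, (Submodule.mem_annihilator_span_singleton m x).1 hx, smul_zero]))⟩ hQq'
    exact Set.disjoint_left.1 hQd (hQq ha) ⟨a, Submonoid.mem_sup_right (Submonoid.mem_powers a), rfl⟩

omit [Module.Finite A B] in
theorem exists_comap_eq {p : Ideal A} (hp : p ∈ FlatCA.weakAss A M) :
    ∃ q ∈ FlatCA.weakAss B M, q.comap (algebraMap A B) = p := by
  obtain ⟨m, hm⟩ := hp
  have hann : (Submodule.span A {m}).annihilator = (Submodule.span B {m}).annihilator.comap (algebraMap A B) := by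
    ext a
    rw [Ideal.mem_comap, Submodule.mem_annihilator_span_singleton, Submodule.mem_annihilator_span_singleton,
      algebraMap_smul]
  rw [hann] at hm
  have := hm.1.1
  obtain ⟨q, hq, hle⟩ := Ideal.exists_minimalPrimes_comap_eq (algebraMap A B) p hm
  exact ⟨q, ⟨m, hq⟩, hle⟩

end Groth.Agent.WeakAssPush
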